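import Groth.Agent.Lib.QCAlgFT9.Gen

/-!
# Fibre products of quasi-coherent algebras
-/

set_option autoImplicit false
set_option backward.isDefEq.respectTransparency false
set_option linter.style.haveILetI false

universe u

open CategoryTheory CategoryTheory.Limits AlgebraicGeometry TopologicalSpace Opposite
open GrothLib.QCAlgFT9

noncomputable section

namespace GrothLib.RelOpenApprox8

variable {X : Scheme.{u}} {A B C G : _root_.RelSpec.QCAlg X}

/-- An algebra map on sections. -/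
abbrev ap (φ : A ⟶ C) (U : X.Opens) : A.presheaf.obj (op U) →+* C.presheaf.obj (op U) := (φ.hom.app (op U)).hom

theorem ap_res (φ : A ⟶ C) {U V : X.Opens} (h : V ≤ U) (x : A.presheaf.obj (op U)) :
    ap φ V (resB A h x) = resB C h (ap φ U x) :=
  ConcreteCategory.congr_hom (φ.hom.naturality (homOfLE h).op) x

theorem ap_str (φ : A ⟶ C) (U : X.Opens) (r : Γ(X, U)) : ap φ U (strB A U r) = strB C U r :=
  ConcreteCategory.congr_hom (NatTrans.congr_app φ.comm (op U)) r

theorem ap_comp (φ : A ⟶ B) (ψ : B ⟶ C) (U : X.Opens) (x : A.presheaf.obj (op U)) :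
    ap (φ ≫ ψ) U x = ap ψ U (ap φ U x) := rfl

theorem resB_eq (F : _root_.RelSpec.QCAlg X) {U V W : X.Opens} (h : V ≤ U) (e : W = V)
    (x : F.presheaf.obj (op U)) : resB F (e.le.trans h) x = resB F e.le (resB F h x) :=
  (resB_resB F h e.le x).symm

variable (φ : A ⟶ C) (ψ : B ⟶ C)

/-- The compatible pairs of sections. -/
def fpRing (U : X.Opens) : Subring (A.presheaf.obj (op U) × B.presheaf.obj (op U)) :=
  RingHom.eqLocus ((ap φ U).comp (RingHom.fst _ _)) ((ap ψ U).comp (RingHom.snd _ _))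

theorem mem_fpRing {U : X.Opens} (x : A.presheaf.obj (op U)) (y : B.presheaf.obj (op U)) :
    (x, y) ∈ fpRing φ ψ U ↔ ap φ U x = ap ψ U y := Iff.rfl

theorem res_mem_fpRing {U V : X.Opens} (h : V ≤ U) {z : A.presheaf.obj (op U) × B.presheaf.obj (op U)}
    (hz : z ∈ fpRing φ ψ U) : (resB A h z.1, resB B h z.2) ∈ fpRing φ ψ V := by
  rw [mem_fpRing, ap_res, ap_res]
  exact congrArg _ hz

/-- Restriction of compatible pairs. -/
def fpRes {U V : X.Opens} (h : V ≤ U) : fpRing φ ψ U →+* fpRing φ ψ V :=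
  (((resB A h).prodMap (resB B h)).comp (fpRing φ ψ U).subtype).codRestrict (fpRing φ ψ V)
    fun z => res_mem_fpRing φ ψ h z.2

/-- The compatible pairs, as a functor on the affine opens. -/
def fpFun : X.AffineZariskiSiteᵒᵖ ⥤ CommRingCat.{u} where
  obj U := CommRingCat.of (fpRing φ ψ U.unop.1)
  map {U V} i := CommRingCat.ofHom (fpRes φ ψ (leOfHom ((RelSpec.aff X).map i.unop)))
  map_id U := by
    refine ConcreteCategory.hom_ext _ _ fun z => Subtype.ext (Prod.ext ?_ ?_)
    · exact ConcreteCategory.congr_hom (A.presheaf.map_id (op U.unop.1)) z.1.1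
    · exact ConcreteCategory.congr_hom (B.presheaf.map_id (op U.unop.1)) z.1.2
  map_comp {U V W} i j := by
    refine ConcreteCategory.hom_ext _ _ fun z => Subtype.ext (Prod.ext ?_ ?_)
    · exact (resB_resB A (leOfHom ((RelSpec.aff X).map i.unop))
        (leOfHom ((RelSpec.aff X).map j.unop)) z.1.1).symm
    · exact (resB_resB B (leOfHom ((RelSpec.aff X).map i.unop))
        (leOfHom ((RelSpec.aff X).map j.unop)) z.1.2).symm

theorem str_mem_fpRing (U : X.Opens) (r : Γ(X, U)) : (strB A U r, strB B U r) ∈ fpRing φ ψ U := by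
  rw [mem_fpRing, ap_str, ap_str]

/-- The structure map of the compatible pairs. -/
def fpStr : (RelSpec.aff X).op ⋙ X.presheaf ⟶ fpFun φ ψ where
  app U := CommRingCat.ofHom (((strB A U.unop.1).prod (strB B U.unop.1)).codRestrict (fpRing φ ψ U.unop.1)
    (str_mem_fpRing φ ψ U.unop.1))
  naturality U V i := by
    refine ConcreteCategory.hom_ext _ _ fun r => Subtype.ext (Prod.ext ?_ ?_)
    · exact (resB_strB A (leOfHom ((RelSpec.aff X).map i.unop)) r).symm
    · exact (resB_strB B (leOfHom ((RelSpec.aff X).map i.unop)) r).symm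

theorem surj_away (F : _root_.RelSpec.QCAlg X) {U : X.Opens} (hU : IsAffineOpen U) (r : Γ(X, U))
    (x : F.presheaf.obj (op (X.basicOpen r))) :
    ∃ n : ℕ, ∃ a : F.presheaf.obj (op U),
      x * resB F (X.basicOpen_le r) (strB F U r) ^ n = resB F (X.basicOpen_le r) a := by
  letI := (resB F (X.basicOpen_le r)).toAlgebra
  haveI : IsLocalization.Away (strB F U r) (F.presheaf.obj (op (X.basicOpen r))) := F.isQC U hU r
  exact IsLocalization.Away.surj (strB F U r) x

theorem eq_away (F : _root_.RelSpec.QCAlg X) {U : X.Opens} (hU : IsAffineOpen U) (r : Γ(X, U))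
    {a b : F.presheaf.obj (op U)} (h : resB F (X.basicOpen_le r) a = resB F (X.basicOpen_le r) b) :
    ∃ n : ℕ, strB F U r ^ n * a = strB F U r ^ n * b := by
  letI := (resB F (X.basicOpen_le r)).toAlgebra
  haveI : IsLocalization.Away (strB F U r) (F.presheaf.obj (op (X.basicOpen r))) := F.isQC U hU r
  exact IsLocalization.Away.exists_of_eq (x := strB F U r) (S := F.presheaf.obj (op (X.basicOpen r))) h

theorem coequifibered_fpStr : (fpStr φ ψ).Coequifibered := by
  refine Scheme.AffineZariskiSite.coequifibered_iff_forall_isLocalizationAway.mpr fun U r => ?_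
  have hr := X.basicOpen_le r
  letI : Algebra (fpRing φ ψ U.1) (fpRing φ ψ (X.basicOpen r)) := (fpRes φ ψ hr).toAlgebra
  show IsLocalization.Away (⟨(strB A U.1 r, strB B U.1 r), str_mem_fpRing φ ψ U.1 r⟩ : fpRing φ ψ U.1)
    (fpRing φ ψ (X.basicOpen r))
  refine IsLocalization.Away.mk _ ?_ (fun y => ?_) fun a b hab => ?_
  · obtain ⟨u, hu⟩ := (RingedSpace.isUnit_res_basicOpen X.toRingedSpace r).exists_right_inv
    refine IsUnit.of_mul_eq_one (⟨(strB A (X.basicOpen r) (show Γ(X, X.basicOpen r) from u),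
      strB B (X.basicOpen r) (show Γ(X, X.basicOpen r) from u)), str_mem_fpRing φ ψ _ _⟩ :
        fpRing φ ψ (X.basicOpen r)) (Subtype.ext (Prod.ext ?_ ?_))
    · have hu' : (X.presheaf.map (homOfLE hr).op).hom r * (show Γ(X, X.basicOpen r) from u) = 1 := hu
      show resB A hr (strB A U.1 r) * strB A (X.basicOpen r) (show Γ(X, X.basicOpen r) from u) = 1
      rw [resB_strB, ← map_mul]
      exact (congrArg (strB A (X.basicOpen r)) hu').trans (map_one _)
    · have hu' : (X.presheaf.map (homOfLE hr).op).hom r * (show Γ(X, X.basicOpen r) from u) = 1 := hu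
      show resB B hr (strB B U.1 r) * strB B (X.basicOpen r) (show Γ(X, X.basicOpen r) from u) = 1
      rw [resB_strB, ← map_mul]
      exact (congrArg (strB B (X.basicOpen r)) hu').trans (map_one _)
  · obtain ⟨⟨x, z⟩, hy⟩ := y
    obtain ⟨n, a, ha⟩ := surj_away A U.2 r x
    obtain ⟨m, c, hc⟩ := surj_away B U.2 r z
    have hy' : ap φ (X.basicOpen r) x = ap ψ (X.basicOpen r) z := hy
    obtain ⟨k, hk⟩ := eq_away C U.2 r (a := ap φ U.1 (strB A U.1 r ^ m * a))
      (b := ap ψ U.1 (strB B U.1 r ^ n * c)) (by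
        rw [← ap_res, ← ap_res]
        simp only [map_mul, map_pow, ← ha, ← hc, resB_strB, ap_str, hy']
        ring)
    refine ⟨n + m + k, ⟨(strB A U.1 r ^ (m + k) * a, strB B U.1 r ^ (n + k) * c), ?_⟩, Subtype.ext (Prod.ext ?_ ?_)⟩
    · rw [mem_fpRing]
      simp only [map_mul, map_pow, ap_str] at hk ⊢
      rw [pow_add, pow_add]
      linear_combination hk
    · show x * resB A hr (strB A U.1 r) ^ (n + m + k) = resB A hr (strB A U.1 r ^ (m + k) * a)
      rw [map_mul, map_pow, ← ha, pow_add, pow_add, pow_add]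
      ring
    · show z * resB B hr (strB B U.1 r) ^ (n + m + k) = resB B hr (strB B U.1 r ^ (n + k) * c)
      rw [map_mul, map_pow, ← hc, pow_add, pow_add, pow_add]
      ring
  · have e : resB A hr a.1.1 = resB A hr b.1.1 ∧ resB B hr a.1.2 = resB B hr b.1.2 :=
      Prod.mk.injEq _ _ _ _ ▸ (congrArg Subtype.val hab : _)
    obtain ⟨n, hn⟩ := eq_away A U.2 r e.1
    obtain ⟨m, hm⟩ := eq_away B U.2 r e.2
    refine ⟨n + m, Subtype.ext (Prod.ext ?_ ?_)⟩
    · show strB A U.1 r ^ (n + m) * a.1.1 = strB A U.1 r ^ (n + m) * b.1.1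
      rw [pow_add, mul_comm (_ ^ n), mul_assoc, mul_assoc, hn]
    · show strB B U.1 r ^ (n + m) * a.1.2 = strB B U.1 r ^ (n + m) * b.1.2
      rw [pow_add, mul_assoc, mul_assoc, hm]

/-- A fibre product of quasi-coherent algebras, known on the affine opens. -/
structure FP where
  /-- the algebra -/
  P : _root_.RelSpec.QCAlg X
  /-- the first projection -/
  p₁ : P ⟶ A
  /-- the second projection -/
  p₂ : P ⟶ B
  comm : p₁ ≫ φ = p₂ ≫ ψ
  inj : ∀ U : X.Opens, IsAffineOpen U → ∀ s t : P.presheaf.obj (op U),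
    ap p₁ U s = ap p₁ U t → ap p₂ U s = ap p₂ U t → s = t
  exi : ∀ U : X.Opens, IsAffineOpen U → ∀ x y, ap φ U x = ap ψ U y →
    ∃ s : P.presheaf.obj (op U), ap p₁ U s = x ∧ ap p₂ U s = y

/-- Agreement of two restrictions of a natural family on affine opens. -/
theorem natural_of_basic (P : _root_.RelSpec.QCAlg X)
    (ρ : ∀ U : X.AffineZariskiSite, P.presheaf.obj (op U.1) →+* A.presheaf.obj (op U.1))
    (hρ : ∀ (U W : X.AffineZariskiSite) (_ : W ≤ U) (h : W.1 ≤ U.1) (x : P.presheaf.obj (op U.1)),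
      ρ W (resB P h x) = resB A h (ρ U x))
    (U V : X.Opens) (hU : IsAffineOpen U) (hV : IsAffineOpen V) (hVU : V ≤ U) (x : P.presheaf.obj (op U)) :
    ρ ⟨V, hV⟩ (resB P hVU x) = resB A hVU (ρ ⟨U, hU⟩ x) := by
  choose f g hfg hx using fun p : V => exists_basicOpen_le_affine_inter hU hV p.1 ⟨hVU p.2, p.2⟩
  refine TopCat.Sheaf.eq_of_locally_eq' ⟨A.presheaf, A.isSheaf⟩ (fun p => X.basicOpen (g p)) V
    (fun p => homOfLE (X.basicOpen_le (g p)))
    (fun p hp => Opens.mem_iSup.mpr ⟨⟨p, hp⟩, hfg _ ▸ hx ⟨p, hp⟩⟩) _ _ fun p => ?_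
  have e1 := hρ ⟨V, hV⟩ ⟨_, hV.basicOpen (g p)⟩ ⟨g p, rfl⟩ (X.basicOpen_le (g p)) (resB P hVU x)
  have e2 := hρ ⟨U, hU⟩ ⟨_, hV.basicOpen (g p)⟩ ⟨f p, hfg p⟩ ((X.basicOpen_le (g p)).trans hVU) x
  refine e1.symm.trans (Eq.trans ?_ (e2.trans (resB_resB A hVU (X.basicOpen_le (g p)) _).symm))
  rw [resB_resB]

theorem nonempty_fp : Nonempty (FP φ ψ) := by
  obtain ⟨P, i, hi⟩ := RelSpec.exists_qcAlg_of_coequifibered _ _ (coequifibered_fpStr φ ψ)
  let e : ∀ U : X.AffineZariskiSite, P.presheaf.obj (op U.1) →+* fpRing φ ψ U.1 := fun U =>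
    (i.inv.app (op U)).hom
  have he : ∀ (U W : X.AffineZariskiSite) (_ : W ≤ U) (h : W.1 ≤ U.1) (x : P.presheaf.obj (op U.1)),
      e W (resB P h x) = fpRes φ ψ h (e U x) := fun U W le h x =>
    ConcreteCategory.congr_hom (i.inv.naturality (homOfLE le).op) x
  have hs : ∀ (U : X.AffineZariskiSite) (r : Γ(X, U.1)),
      (e U (strB P U.1 r)).1 = (strB A U.1 r, strB B U.1 r) := by
    intro U r
    have e1 := ConcreteCategory.congr_hom (NatTrans.congr_app hi (op U)) r
    refine (congrArg (fun z => (e U z).1) e1.symm).trans ?_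
    exact congrArg Subtype.val (Iso.hom_inv_id_app_apply i (op U) ((fpStr φ ψ).app (op U) r))
  obtain ⟨p₁, hp₁⟩ := RelSpec.exists_algHom (A := P) (B := A)
    (fun U hU => ((RingHom.fst _ _).comp (fpRing φ ψ U).subtype).comp (e ⟨U, hU⟩))
    (fun U hU r => congrArg Prod.fst (hs ⟨U, hU⟩ r))
    (fun U V hU hV h x => natural_of_basic P (fun U => ((RingHom.fst _ _).comp (fpRing φ ψ U.1).subtype).comp (e U))
      (fun U W le h x => congrArg (fun z => z.1.1) (he U W le h x)) U V hU hV h x)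
  obtain ⟨p₂, hp₂⟩ := RelSpec.exists_algHom (A := P) (B := B)
    (fun U hU => ((RingHom.snd _ _).comp (fpRing φ ψ U).subtype).comp (e ⟨U, hU⟩))
    (fun U hU r => congrArg Prod.snd (hs ⟨U, hU⟩ r))
    (fun U V hU hV h x => natural_of_basic P (fun U => ((RingHom.snd _ _).comp (fpRing φ ψ U.1).subtype).comp (e U))
      (fun U W le h x => congrArg (fun z => z.1.2) (he U W le h x)) U V hU hV h x)
  have h₁ : ∀ U hU (s : P.presheaf.obj (op U)), ap p₁ U s = (e ⟨U, hU⟩ s).1.1 := fun U hU s => by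
    rw [show ap p₁ U = _ from hp₁ U hU]; rfl
  have h₂ : ∀ U hU (s : P.presheaf.obj (op U)), ap p₂ U s = (e ⟨U, hU⟩ s).1.2 := fun U hU s => by
    rw [show ap p₂ U = _ from hp₂ U hU]; rfl
  refine ⟨⟨P, p₁, p₂, RelSpec.algHom_ext fun U hU => ConcreteCategory.hom_ext _ _ fun s => ?_, ?_, ?_⟩⟩
  · show ap φ U (ap p₁ U s) = ap ψ U (ap p₂ U s)
    rw [h₁ U hU, h₂ U hU]
    exact (e ⟨U, hU⟩ s).2
  · intro U hU s t e1 e2
    rw [h₁ U hU, h₁ U hU] at e1
    rw [h₂ U hU, h₂ U hU] at e2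
    exact (ConcreteCategory.bijective_of_isIso (i.inv.app (op ⟨U, hU⟩))).1 (Subtype.ext (Prod.ext e1 e2))
  · intro U hU x y hxy
    obtain ⟨s, hs⟩ := (ConcreteCategory.bijective_of_isIso (i.inv.app (op ⟨U, hU⟩))).2 (⟨(x, y), hxy⟩ : fpRing φ ψ U)
    exact ⟨s, (h₁ U hU s).trans (congrArg (fun z => z.1.1) hs), (h₂ U hU s).trans (congrArg (fun z => z.1.2) hs)⟩

variable {φ ψ}

theorem FP.hom_ext (F : FP φ ψ) {u v : G ⟶ F.P} (h₁ : u ≫ F.p₁ = v ≫ F.p₁) (h₂ : u ≫ F.p₂ = v ≫ F.p₂) : u = v :=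
  RelSpec.algHom_ext fun U hU => ConcreteCategory.hom_ext _ _ fun x => F.inj U hU _ _
    (ConcreteCategory.congr_hom (NatTrans.congr_app (congrArg _root_.RelSpec.QCAlg.Hom.hom h₁) (op U)) x)
    (ConcreteCategory.congr_hom (NatTrans.congr_app (congrArg _root_.RelSpec.QCAlg.Hom.hom h₂) (op U)) x)

theorem FP.exists_lift (F : FP φ ψ) (u : G ⟶ A) (v : G ⟶ B) (h : u ≫ φ = v ≫ ψ) :
    ∃ w : G ⟶ F.P, w ≫ F.p₁ = u ∧ w ≫ F.p₂ = v := by
  have hex : ∀ U (hU : IsAffineOpen U) (x : G.presheaf.obj (op U)),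
      ∃ s : F.P.presheaf.obj (op U), ap F.p₁ U s = ap u U x ∧ ap F.p₂ U s = ap v U x := fun U hU x =>
    F.exi U hU _ _
      (ConcreteCategory.congr_hom (NatTrans.congr_app (congrArg _root_.RelSpec.QCAlg.Hom.hom h) (op U)) x)
  choose s hs₁ hs₂ using hex
  let f : ∀ U : X.Opens, IsAffineOpen U → (G.presheaf.obj (op U) →+* F.P.presheaf.obj (op U)) := fun U hU =>
    { toFun := s U hU
      map_one' := F.inj U hU _ _ (by simp [hs₁]) (by simp [hs₂])
      map_mul' := fun a b => F.inj U hU _ _ (by simp [hs₁]) (by simp [hs₂])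
      map_zero' := F.inj U hU _ _ (by simp [hs₁]) (by simp [hs₂])
      map_add' := fun a b => F.inj U hU _ _ (by simp [hs₁]) (by simp [hs₂]) }
  obtain ⟨w, hw⟩ := RelSpec.exists_algHom (A := G) (B := F.P) f
    (fun U hU r => F.inj U hU _ _
      ((hs₁ U hU _).trans ((ap_str u U r).trans (ap_str F.p₁ U r).symm))
      ((hs₂ U hU _).trans ((ap_str v U r).trans (ap_str F.p₂ U r).symm)))
    (fun U V hU hV le x => F.inj V hV _ _
      ((hs₁ V hV _).trans ((ap_res u le x).trans ((congrArg (resB A le) (hs₁ U hU x).symm).trans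
        (ap_res F.p₁ le _).symm)))
      ((hs₂ V hV _).trans ((ap_res v le x).trans ((congrArg (resB B le) (hs₂ U hU x).symm).trans
        (ap_res F.p₂ le _).symm))))
  refine ⟨w, RelSpec.algHom_ext fun U hU => ConcreteCategory.hom_ext _ _ fun x => ?_,
    RelSpec.algHom_ext fun U hU => ConcreteCategory.hom_ext _ _ fun x => ?_⟩
  · show ap F.p₁ U (ap w U x) = ap u U x
    rw [show ap w U = _ from hw U hU]
    exact hs₁ U hU x
  · show ap F.p₂ U (ap w U x) = ap v U x
    rw [show ap w U = _ from hw U hU]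
    exact hs₂ U hU x

end GrothLib.RelOpenApprox8
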