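import Groth.Agent.Lib.RelOpenApprox8.Main
import Groth.Prelude.Def_CohB1

/-!
# The approximations: limit, open part, properties
-/

set_option autoImplicit false
set_option backward.isDefEq.respectTransparency false
set_option linter.style.haveILetI false
set_option linter.unusedSectionVars false
set_option maxHeartbeats 400000

universe u

open CategoryTheory CategoryTheory.Limits AlgebraicGeometry TopologicalSpace Opposite
open GrothLib.QCAlgFT9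

noncomputable section

namespace GrothLib.RelOpenApprox8

theorem bijective_appLE_congr {Y Z : Scheme.{u}} (f : Y ⟶ Z) {U : Z.Opens} {V V' : Y.Opens} (e : V' = V)
    (h : V ≤ f ⁻¹ᵁ U) (hf : Function.Bijective (f.appLE U V h)) :
    Function.Bijective (f.appLE U V' (e.le.trans h)) := by
  subst e
  exact hf

theorem isIso_app_congr {Y Z : Scheme.{u}} (f : Y ⟶ Z) {O O' : Z.Opens} (e : O' = O) (h : IsIso (f.app O)) :
    IsIso (f.app O') := by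
  subst e
  exact h

/-- Sections on the limit over the preimage of a compact open come from a stage. -/
theorem exists_π_appLE_eq {I : Type u} [Category.{u} I] [IsCofiltered I] (D : I ⥤ Scheme.{u})
    [∀ {i j : I} (f : i ⟶ j), IsAffineHom (D.map f)] [∀ i, QuasiSeparatedSpace (D.obj i)]
    (c : Cone D) (hc : IsLimit c) (i : I) (U : (D.obj i).Opens) (hU : IsCompact (U : Set (D.obj i)))
    (V : c.pt.Opens) (e : V = c.π.app i ⁻¹ᵁ U) (x : Γ(c.pt, V)) :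
    ∃ (k : I) (f : k ⟶ i) (y : Γ(D.obj k, D.map f ⁻¹ᵁ U)),
      (c.π.app k).appLE (D.map f ⁻¹ᵁ U) V (by rw [← Scheme.Hom.comp_preimage, c.w, e]) y = x := by
  subst e
  haveI : ∀ k : Over i, CompactSpace ↥((opensDiagram D i U).obj k) := fun k =>
    isCompact_iff_compactSpace.mp (QuasiCompact.isCompact_preimage (f := D.map k.hom) _ U.2 hU)
  haveI : ∀ k : Over i, QuasiSeparatedSpace ↥((opensDiagram D i U).obj k) := fun k =>
    (isQuasiSeparated_iff_quasiSeparatedSpace _ (D.map k.hom ⁻¹ᵁ U).2).mp (.of_quasiSeparatedSpace _)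
  obtain ⟨k, t, ht⟩ := exists_appTop_π_eq_of_isLimit (opensDiagram D i U) (opensCone D c i U)
    (isLimitOpensCone D c hc i U) ((c.π.app i ⁻¹ᵁ U).topIso.inv x)
  refine ⟨k.left, k.hom, (D.map k.hom ⁻¹ᵁ U).topIso.hom t, ?_⟩
  have e : ((opensCone D c i U).π.app k).appTop =
      (D.map k.hom ⁻¹ᵁ U).topIso.hom ≫ (c.π.app k.left).appLE (D.map k.hom ⁻¹ᵁ U) (c.π.app i ⁻¹ᵁ U)
        (by rw [← Scheme.Hom.comp_preimage, c.w]) ≫ (c.π.app i ⁻¹ᵁ U).topIso.inv := by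
    show ((c.π.app k.left).resLE (D.map k.hom ⁻¹ᵁ U) (c.π.app i ⁻¹ᵁ U) _).app ⊤ = _
    exact Scheme.Hom.resLE_app_top _ _
  rw [e, ConcreteCategory.comp_apply, ConcreteCategory.comp_apply] at ht
  exact ((ConcreteCategory.bijective_of_isIso (c.π.app i ⁻¹ᵁ U).topIso.inv).1 ht).symm

variable {X S : Scheme.{u}} {p : S ⟶ X} {V0 : X.Opens} {I : Type u} [Preorder I]
variable [CompactSpace X] [QuasiSeparatedSpace X] [IsAffineHom p] [QuasiCompact V0.ι]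
  [QuasiCompact (wmap p V0)] {d : Dat p V0 I}

/-- The open part of an approximation. -/
abbrev Idx.V' (j : Idx d) : j.Y.Opens := j.π ⁻¹ᵁ V0

/-- The stage as an open part. -/
def Idx.bLift (j : Idx d) : d.D.obj (op j.i) ⟶ (j.V' : Scheme.{u}) :=
  IsOpenImmersion.lift j.V'.ι j.b (by
    rintro _ ⟨t, rfl⟩
    rw [Scheme.Opens.range_ι]
    show (j.b ≫ j.π) t ∈ V0
    rw [j.b_π]
    exact (d.h.app (op j.i) t).2)

theorem Idx.bLift_ι (j : Idx d) : j.bLift ≫ j.V'.ι = j.b := IsOpenImmersion.lift_fac _ _ _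

theorem gInv_bijective (A : _root_.RelSpec.QCAlg X) (U : X.Opens) : Function.Bijective (ap (gInv A) U) := by
  refine Function.bijective_iff_has_inverse.2 ⟨ap A.gammaHom U, fun x => ?_, fun x => ?_⟩
  · rw [← ap_comp, gInv_gammaHom]; rfl
  · rw [← ap_comp, gammaHom_gInv]; rfl

theorem Idx.b_bijective (j : Idx d) {U : X.Opens} (hU : IsAffineOpen U) (le : U ≤ V0) :
    Function.Bijective (j.b.appLE (j.π ⁻¹ᵁ U) (d.g j.i ⁻¹ᵁ U)
      (by rw [← Scheme.Hom.comp_preimage j.b, j.b_π])) := by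
  have h : Function.Bijective (ap (toAlg (d.g j.i) j.1.A j.b j.b_π) U) := by
    rw [j.toAlg_b]
    exact (p₂_bijective j.i hU le).comp ⟨j.1.inj U, j.2 U hU le⟩
  have e : (ap (toAlg (d.g j.i) j.1.A j.b j.b_π) U : _ → _) =
      (j.b.appLE (j.π ⁻¹ᵁ U) (d.g j.i ⁻¹ᵁ U) (by rw [← Scheme.Hom.comp_preimage j.b, j.b_π])) ∘ (ap (gInv j.1.A) U) :=
    funext fun x => pushHom_ap j.π (d.g j.i) j.b j.b_π U (ap (gInv j.1.A) U x)
  rw [e] at h
  exact (Function.Bijective.of_comp_iff _ (gInv_bijective _ U)).1 h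

theorem Idx.isIso_bLift (j : Idx d) : IsIso j.bLift := by
  let 𝒰 : {U : X.affineOpens // U.1 ≤ V0} → (j.V' : Scheme.{u}).Opens := fun U => j.V'.ι ⁻¹ᵁ (j.π ⁻¹ᵁ U.1.1)
  suffices h : MorphismProperty.isomorphisms Scheme j.bLift from h
  refine IsZariskiLocalAtTarget.of_iSup_eq_top (P := MorphismProperty.isomorphisms Scheme) 𝒰
    (top_unique fun x _ => ?_) fun U => ?_
  · obtain ⟨U, hU, hxU, hle⟩ := exists_isAffineOpen_mem_and_subset (x := j.π (j.V'.ι x)) (U := V0) x.2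
    exact Opens.mem_iSup.2 ⟨⟨⟨U, hU⟩, hle⟩, hxU⟩
  have hO : IsAffineOpen (𝒰 U) :=
    (U.1.2.preimage j.π).preimage_of_isOpenImmersion j.V'.ι
      (by rw [Scheme.Opens.opensRange_ι]; exact j.π.preimage_mono U.2)
  have e : j.bLift ⁻¹ᵁ 𝒰 U = d.g j.i ⁻¹ᵁ U.1.1 := by
    show j.bLift ⁻¹ᵁ (j.V'.ι ⁻¹ᵁ (j.π ⁻¹ᵁ U.1.1)) = _
    rw [← Scheme.Hom.comp_preimage, ← Scheme.Hom.comp_preimage]
    rw [j.bLift_ι, j.b_π]
  haveI : IsAffine (𝒰 U).toScheme := hO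
  haveI : IsAffine (j.bLift ⁻¹ᵁ 𝒰 U).toScheme := by
    rw [e]; exact isAffineOpen_preimage_g j.i U.1.2 U.2
  refine (HasAffineProperty.iff_of_isAffine (P := MorphismProperty.isomorphisms Scheme)).2 ⟨inferInstance, ?_⟩
  haveI h1 : IsIso (j.V'.ι.app (j.π ⁻¹ᵁ U.1.1)) :=
    j.V'.ι.isIso_app _ (by rw [Scheme.Opens.opensRange_ι]; exact j.π.preimage_mono U.2)
  have hb : Function.Bijective (j.b.appLE (j.π ⁻¹ᵁ U.1.1) (j.bLift ⁻¹ᵁ 𝒰 U)
      (by rw [e, ← Scheme.Hom.comp_preimage j.b, j.b_π])) :=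
    bijective_appLE_congr j.b e _ (j.b_bijective U.1.2 U.2)
  have e2 : j.V'.ι.app (j.π ⁻¹ᵁ U.1.1) ≫ j.bLift.app (𝒰 U) =
      j.b.appLE (j.π ⁻¹ᵁ U.1.1) (j.bLift ⁻¹ᵁ 𝒰 U) (by rw [e, ← Scheme.Hom.comp_preimage j.b, j.b_π]) := by
    rw [Scheme.Hom.app_eq_appLE, Scheme.Hom.app_eq_appLE, Scheme.Hom.appLE_comp_appLE]
    simp only [j.bLift_ι]
  haveI : IsIso (j.b.appLE (j.π ⁻¹ᵁ U.1.1) (j.bLift ⁻¹ᵁ 𝒰 U)
      (by rw [e, ← Scheme.Hom.comp_preimage j.b, j.b_π])) :=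
    (ConcreteCategory.isIso_iff_bijective _).2 hb
  haveI : IsIso (j.bLift.app (𝒰 U)) := by
    rw [← IsIso.eq_inv_comp] at e2
    rw [e2]
    infer_instance
  haveI := isIso_app_congr j.bLift ((𝒰 U).ι_image_top) this
  rw [morphismRestrict_appTop]
  infer_instance

variable [IsDirected I (· ≤ ·)] [Nonempty I]

variable (d) in
theorem nonempty_isLimit_sys : Nonempty (IsLimit (sysCone d)) := by
  haveI hmap : ∀ {i j : Iᵒᵖ} (f : i ⟶ j), IsAffineHom (d.D.map f) := fun f => d.hmap f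
  haveI := d.hcpt
  haveI := d.hqs
  refine nonempty_isLimit (sys d) (fun j => j.unop.π) (fun f => Idx.tr_π (leOfHom f.unop)) (sysCone d) p
    (fun j => j.unop.a_π) (fun U hU x => ?_) (fun U hU j y hy => ?_)
  · obtain ⟨i₀⟩ : Nonempty I := inferInstance
    have hc : IsCompact (d.g i₀ ⁻¹ᵁ U : Set (d.D.obj (op i₀))) :=
      QuasiCompact.isCompact_preimage (f := d.g i₀) _ U.2 hU.isCompact
    have hV : wmap p V0 ⁻¹ᵁ U = d.q.app (op i₀) ⁻¹ᵁ (d.g i₀ ⁻¹ᵁ U) := by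
      rw [← Scheme.Hom.comp_preimage, d.q_g]
    obtain ⟨k, f, c, hck⟩ := exists_π_appLE_eq d.D (Cone.mk _ d.q) d.hq (op i₀) (d.g i₀ ⁻¹ᵁ U) hc
      (wmap p V0 ⁻¹ᵁ U) hV (ap (Dat.φA (p := p) (V0 := V0)) U x)
    obtain ⟨k⟩ := k
    have ek : d.g k ⁻¹ᵁ U = d.D.map f ⁻¹ᵁ (d.g i₀ ⁻¹ᵁ U) := by
      rw [← Scheme.Hom.comp_preimage,
        show d.D.map f ≫ d.g i₀ = d.g k from d.map_g (leOfHom f.unop)]
    obtain ⟨z, hz1, -⟩ := (d.F k).exi U hU x ((d.D.obj (op k)).presheaf.map (eqToHom ek).op c) (by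
      rw [pushHom_ap (d.g k), ← ConcreteCategory.comp_apply, Scheme.Hom.map_appLE]
      exact hck.symm)
    obtain ⟨Q, hQ, hgood, hs⟩ := exists_good d k (κ := Unit) (fun _ => U) (fun _ => hU) (fun _ => {z})
      (fun _ => Set.finite_singleton _)
    let j : Idx d := ⟨⟨k, Q, hQ⟩, hgood⟩
    obtain ⟨xj, hxj⟩ := hs () rfl
    refine ⟨j, ap (gInv j.1.A) U xj, ?_⟩
    refine (pushHom_ap j.π p j.a j.a_π U (ap (gInv j.1.A) U xj)).symm.trans ?_
    show ap (toAlg p j.1.A j.a j.a_π) U xj = x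
    rw [j.toAlg_a, ap_comp]
    exact (congrArg (ap (d.F k).p₁ U) hxj).trans hz1
  · have hc : IsCompact (d.g j.i ⁻¹ᵁ U : Set (d.D.obj (op j.i))) :=
      QuasiCompact.isCompact_preimage (f := d.g j.i) _ U.2 hU.isCompact
    have hV : wmap p V0 ⁻¹ᵁ U = d.q.app (op j.i) ⁻¹ᵁ (d.g j.i ⁻¹ᵁ U) := by
      rw [← Scheme.Hom.comp_preimage, d.q_g]
    let c : Γ(d.D.obj (op j.i), d.g j.i ⁻¹ᵁ U) :=
      j.b.appLE (j.π ⁻¹ᵁ U) (d.g j.i ⁻¹ᵁ U) (by rw [← Scheme.Hom.comp_preimage j.b, j.b_π]) y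
    have hqc : (d.q.app (op j.i)).appLE (d.g j.i ⁻¹ᵁ U) (wmap p V0 ⁻¹ᵁ U) hV.le c = 0 := by
      have hy' : (p ⁻¹ᵁ V0).ι.appLE (p ⁻¹ᵁ U) (wmap p V0 ⁻¹ᵁ U) le_rfl
          (j.a.appLE (j.π ⁻¹ᵁ U) (p ⁻¹ᵁ U) (by rw [← Scheme.Hom.comp_preimage, j.a_π]) y) = 0 := by
        rw [show j.a.appLE (j.π ⁻¹ᵁ U) (p ⁻¹ᵁ U) (by rw [← Scheme.Hom.comp_preimage, j.a_π]) y = 0 from hy,
          map_zero]
      rw [← ConcreteCategory.comp_apply, Scheme.Hom.appLE_comp_appLE] at hy'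
      simp only [c]
      rw [← ConcreteCategory.comp_apply, Scheme.Hom.appLE_comp_appLE]
      simp only [j.compat] at hy'
      exact hy'
    obtain ⟨k, f, hk⟩ := exists_app_map_eq_zero_of_isLimit d.D (Cone.mk _ d.q) d.hq hc c
      ((appLE_eq_zero_iff _ hV c).1 hqc)
    obtain ⟨k⟩ := k
    have le : j.i ≤ k := leOfHom f.unop
    obtain ⟨j₃, hj₃⟩ := exists_idx d k
    obtain ⟨j', -, hjj', hj₃'⟩ := exists_above j j₃ k le hj₃.le
    have le' : k ≤ j'.i := hj₃ ▸ hj₃'.choose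
    refine ⟨j', hjj', j'.joint_inj hU _ ?_ ?_⟩
    · erw [← ConcreteCategory.comp_apply, Scheme.Hom.appLE_comp_appLE]
      simp only [show j'.a ≫ (sys d).map (homOfLE hjj').op = j.a from Idx.a_tr hjj']
      exact hy
    · have hmap' : d.D.map (homOfLE le').op ≫ d.D.map f = d.D.map (homOfLE hjj'.choose).op := by
        rw [← d.D.map_comp]; rfl
      have h0 : (d.D.map (homOfLE hjj'.choose).op).appLE (d.g j.i ⁻¹ᵁ U) (d.g j'.i ⁻¹ᵁ U)
          (by rw [← Scheme.Hom.comp_preimage, d.map_g]) c = 0 := by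
        have e3 : (d.D.map f).app (d.g j.i ⁻¹ᵁ U) ≫
            (d.D.map (homOfLE le').op).appLE (d.D.map f ⁻¹ᵁ (d.g j.i ⁻¹ᵁ U)) (d.g j'.i ⁻¹ᵁ U)
              (by rw [← Scheme.Hom.comp_preimage, ← Scheme.Hom.comp_preimage, hmap', d.map_g]) =
            (d.D.map (homOfLE hjj'.choose).op).appLE (d.g j.i ⁻¹ᵁ U) (d.g j'.i ⁻¹ᵁ U)
              (by rw [← Scheme.Hom.comp_preimage, d.map_g]) := by
          rw [Scheme.Hom.app_eq_appLE, Scheme.Hom.appLE_comp_appLE]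
          simp only [hmap']
        rw [← e3, ConcreteCategory.comp_apply, hk, map_zero]
      simp only [c] at h0
      erw [← ConcreteCategory.comp_apply, Scheme.Hom.appLE_comp_appLE] at h0 ⊢
      simp only [show j'.b ≫ (sys d).map (homOfLE hjj').op = d.D.map (homOfLE hjj'.choose).op ≫ j.b from Idx.b_tr hjj']
      exact h0

variable [LocallyOfFiniteType (Limits.IsTerminal.from specULiftZIsTerminal X)]

variable (d) in
theorem exists_system :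
    ∃ (J : Type u) (_ : Preorder J) (_ : IsDirected J (fun a b => a ≤ b)) (_ : Nonempty J)
      (DS : Jᵒᵖ ⥤ Scheme.{u}) (cS : Limits.Cone DS) (_ : Limits.IsLimit cS) (eS : cS.pt ≅ S)
      (α : J →o I) (V' : ∀ j : J, (DS.obj (op j)).Opens)
      (φ : ∀ j : J, (V' j : Scheme.{u}) ≅ d.D.obj (op (α j))),
      (∀ (j j' : Jᵒᵖ) (a : j ⟶ j'), IsAffineHom (DS.map a)) ∧
      (∀ j, CompactSpace (DS.obj j) ∧ LocallyOfFiniteType (Limits.IsTerminal.from specULiftZIsTerminal (DS.obj j))) ∧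
      (∀ (j j' : J) (h : j' ≤ j), (DS.map (homOfLE h).op) ⁻¹ᵁ (V' j') = V' j) ∧
      (∀ j : J, (eS.inv ≫ cS.π.app (op j)) ⁻¹ᵁ (V' j) = p ⁻¹ᵁ V0) ∧
      (∀ j : J, ∃ ρ : Wop p V0 ⟶ (V' j : Scheme.{u}),
        ρ ≫ (V' j).ι = (p ⁻¹ᵁ V0).ι ≫ eS.inv ≫ cS.π.app (op j) ∧ ρ ≫ (φ j).hom = d.q.app (op (α j))) ∧
      (∀ (j j' : J) (h : j' ≤ j), ∃ τ : (V' j : Scheme.{u}) ⟶ (V' j' : Scheme.{u}),
        τ ≫ (V' j').ι = (V' j).ι ≫ DS.map (homOfLE h).op ∧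
        (φ j).hom ≫ d.D.map (homOfLE (α.mono h)).op = τ ≫ (φ j').hom) := by
  obtain ⟨hlim⟩ := nonempty_isLimit_sys d
  haveI hiso : ∀ j : Idx d, IsIso j.bLift := fun j => j.isIso_bLift
  refine ⟨Idx d, inferInstance, inferInstance, inferInstance, sys d, sysCone d, hlim, Iso.refl _,
    ⟨fun j => j.i, fun _ _ h => h.choose⟩, fun j => j.V', fun j => (asIso j.bLift).symm, ?_, ?_, ?_, ?_, ?_, ?_⟩
  · intro j j' f
    haveI : IsAffineHom ((sys d).map f ≫ j'.unop.π) := by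
      show IsAffineHom (Idx.tr (leOfHom f.unop) ≫ j'.unop.π)
      rw [Idx.tr_π]
      infer_instance
    exact IsAffineHom.of_comp ((sys d).map f) j'.unop.π
  · intro j
    refine ⟨QuasiCompact.compactSpace_of_compactSpace j.unop.π, ?_⟩
    haveI : LocallyOfFiniteType j.unop.π := locallyOfFiniteType_π j.unop.1.ft
    rw [specULiftZIsTerminal.hom_ext (IsTerminal.from specULiftZIsTerminal ((sys d).obj j))
      (j.unop.π ≫ IsTerminal.from specULiftZIsTerminal X)]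
    infer_instance
  · intro j j' h
    show Idx.tr h ⁻¹ᵁ (j'.π ⁻¹ᵁ V0) = j.π ⁻¹ᵁ V0
    rw [← Scheme.Hom.comp_preimage, Idx.tr_π]
  · intro j
    show (𝟙 S ≫ j.a) ⁻¹ᵁ (j.π ⁻¹ᵁ V0) = _
    rw [Category.id_comp, ← Scheme.Hom.comp_preimage, j.a_π]
  · intro j
    refine ⟨d.q.app (op j.i) ≫ j.bLift, ?_, ?_⟩
    · show (d.q.app (op j.i) ≫ j.bLift) ≫ j.V'.ι = (p ⁻¹ᵁ V0).ι ≫ 𝟙 S ≫ j.a
      rw [Category.id_comp, Category.assoc, j.bLift_ι, j.compat]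
    · show (d.q.app (op j.i) ≫ j.bLift) ≫ inv j.bLift = d.q.app (op j.i)
      rw [Category.assoc, IsIso.hom_inv_id, Category.comp_id]
  · intro j j' h
    refine ⟨inv j.bLift ≫ d.D.map (homOfLE h.choose).op ≫ j'.bLift, ?_, ?_⟩
    · show (inv j.bLift ≫ d.D.map (homOfLE h.choose).op ≫ j'.bLift) ≫ j'.V'.ι = j.V'.ι ≫ Idx.tr h
      rw [Category.assoc, Category.assoc, j'.bLift_ι, ← Idx.b_tr h, IsIso.inv_comp_eq, ← Category.assoc,
        ← j.bLift_ι]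
    · show inv j.bLift ≫ d.D.map (homOfLE h.choose).op =
        (inv j.bLift ≫ d.D.map (homOfLE h.choose).op ≫ j'.bLift) ≫ inv j'.bLift
      simp

end GrothLib.RelOpenApprox8
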