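import Groth.Agent.Lib.AffAlg8.Hom
import Groth.Agent.Lib.RelSpec.OfAffine
import Mathlib.CategoryTheory.Category.Preorder

/-!
# Limits of schemes affine over a base, via sections over the affine opens of the base
-/

set_option autoImplicit false
set_option backward.isDefEq.respectTransparency false
set_option linter.style.haveILetI false

universe u

open CategoryTheory CategoryTheory.Limits AlgebraicGeometry TopologicalSpace Opposite

noncomputable section

namespace GrothLib.RelOpenApprox8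

variable {X : Scheme.{u}} {J : Type u} [Preorder J] [IsDirected J (· ≤ ·)] [Nonempty J]
  (D : Jᵒᵖ ⥤ Scheme.{u}) (π : ∀ j, D.obj j ⟶ X) [∀ j, IsAffineHom (π j)]
  (hπ : ∀ {j j' : Jᵒᵖ} (f : j ⟶ j'), D.map f ≫ π j' = π j)
  (c : Cone D) (p : c.pt ⟶ X) [IsAffineHom p] (hp : ∀ j, c.π.app j ≫ π j = p)

include hπ in
theorem common_structure (s : Cone D) (i j : Jᵒᵖ) : s.π.app i ≫ π i = s.π.app j ≫ π j := by
  obtain ⟨k, hi, hj⟩ := exists_ge_ge i.unop j.unop
  rw [← s.w (homOfLE hi).op, ← s.w (homOfLE hj).op, Category.assoc, Category.assoc, hπ, hπ]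

include hπ hp in
/-- A cone of schemes affine over `X` is limiting if on the affine opens of `X` the sections are the colimit. -/
theorem nonempty_isLimit
    (hsurj : ∀ U : X.Opens, IsAffineOpen U → ∀ x : Γ(c.pt, p ⁻¹ᵁ U), ∃ (j : J) (y : Γ(D.obj (op j), π (op j) ⁻¹ᵁ U)),
      (c.π.app (op j)).appLE (π (op j) ⁻¹ᵁ U) (p ⁻¹ᵁ U) (by rw [← hp (op j)]; rfl) y = x)
    (hker : ∀ U : X.Opens, IsAffineOpen U → ∀ (j : J) (y : Γ(D.obj (op j), π (op j) ⁻¹ᵁ U)),
      (c.π.app (op j)).appLE (π (op j) ⁻¹ᵁ U) (p ⁻¹ᵁ U) (by rw [← hp (op j)]; rfl) y = 0 →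
      ∃ (j' : J) (h : j ≤ j'), (D.map (homOfLE h).op).appLE (π (op j) ⁻¹ᵁ U) (π (op j') ⁻¹ᵁ U)
        (by rw [← hπ (homOfLE h).op]; rfl) y = 0) :
    Nonempty (IsLimit c) := by
  suffices H : ∀ s : Cone D, ∃! w : s.pt ⟶ c.pt, ∀ j, w ≫ c.π.app j = s.π.app j by
    choose w hw using fun s => (H s).exists
    exact ⟨{ lift := w, fac := fun s j => hw s j,
             uniq := fun s m hm => (H s).unique hm (hw s) }⟩
  intro s
  obtain ⟨j₀⟩ : Nonempty J := inferInstance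
  let h : s.pt ⟶ X := s.π.app (op j₀) ≫ π (op j₀)
  have hh : ∀ j, s.π.app j ≫ π j = h := fun j => common_structure D π hπ s j (op j₀)
  let cm : ∀ (j : J) (U : X.Opens), Γ(D.obj (op j), π (op j) ⁻¹ᵁ U) →+* Γ(c.pt, p ⁻¹ᵁ U) := fun j U =>
    ((c.π.app (op j)).appLE (π (op j) ⁻¹ᵁ U) (p ⁻¹ᵁ U) (by rw [← hp (op j)]; rfl)).hom
  let sm : ∀ (j : J) (U : X.Opens), Γ(D.obj (op j), π (op j) ⁻¹ᵁ U) →+* Γ(s.pt, h ⁻¹ᵁ U) := fun j U =>
    ((s.π.app (op j)).appLE (π (op j) ⁻¹ᵁ U) (h ⁻¹ᵁ U) (by rw [← hh (op j)]; rfl)).hom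
  let tm : ∀ (j k : J) (_ : j ≤ k) (U : X.Opens), Γ(D.obj (op j), π (op j) ⁻¹ᵁ U) →+* Γ(D.obj (op k), π (op k) ⁻¹ᵁ U) :=
    fun j k le U => ((D.map (homOfLE le).op).appLE (π (op j) ⁻¹ᵁ U) (π (op k) ⁻¹ᵁ U)
      (by rw [← hπ (homOfLE le).op]; rfl)).hom
  have hc : ∀ j k le U y, cm k U (tm j k le U y) = cm j U y := by
    intro j k le U y
    simp only [cm, tm]
    erw [← ConcreteCategory.comp_apply, Scheme.Hom.appLE_comp_appLE]
    simp only [c.w]
    rfl
  have hs : ∀ j k le U y, sm k U (tm j k le U y) = sm j U y := by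
    intro j k le U y
    simp only [sm, tm]
    erw [← ConcreteCategory.comp_apply, Scheme.Hom.appLE_comp_appLE]
    simp only [s.w]
    rfl
  have hwd : ∀ (U : X.Opens), IsAffineOpen U → ∀ (j k : J) (y : Γ(D.obj (op j), π (op j) ⁻¹ᵁ U))
      (z : Γ(D.obj (op k), π (op k) ⁻¹ᵁ U)), cm j U y = cm k U z → sm j U y = sm k U z := by
    intro U hU j k y z e
    obtain ⟨l, hjl, hkl⟩ := exists_ge_ge j k
    obtain ⟨l', hl', h0⟩ := hker U hU l (tm j l hjl U y - tm k l hkl U z) (by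
      show cm l U _ = 0
      rw [map_sub, hc, hc, e, sub_self])
    have h0' : sm l' U (tm l l' hl' U (tm j l hjl U y - tm k l hkl U z)) = 0 := by
      rw [show tm l l' hl' U (tm j l hjl U y - tm k l hkl U z) = 0 from h0, map_zero]
    rwa [hs, map_sub, hs, hs, sub_eq_zero] at h0'
  choose jx yx hyx using hsurj
  let ωf : ∀ U : X.AffineZariskiSite, Γ(c.pt, p ⁻¹ᵁ U.1) → Γ(s.pt, h ⁻¹ᵁ U.1) := fun U x =>
    sm (jx U.1 U.2 x) U.1 (yx U.1 U.2 x)
  have hω : ∀ (U : X.AffineZariskiSite) (j : J) (y : Γ(D.obj (op j), π (op j) ⁻¹ᵁ U.1)),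
      ωf U (cm j U.1 y) = sm j U.1 y := fun U j y => hwd U.1 U.2 _ _ _ _ (hyx U.1 U.2 _)
  have hrep : ∀ (U : X.AffineZariskiSite) (a b : Γ(c.pt, p ⁻¹ᵁ U.1)), ∃ (l : J) (y z : Γ(D.obj (op l), π (op l) ⁻¹ᵁ U.1)),
      cm l U.1 y = a ∧ cm l U.1 z = b := by
    intro U a b
    obtain ⟨l, h₁, h₂⟩ := exists_ge_ge (jx U.1 U.2 a) (jx U.1 U.2 b)
    exact ⟨l, tm _ l h₁ U.1 (yx U.1 U.2 a), tm _ l h₂ U.1 (yx U.1 U.2 b),
      (hc _ l h₁ U.1 _).trans (hyx U.1 U.2 a), (hc _ l h₂ U.1 _).trans (hyx U.1 U.2 b)⟩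
  let ωr : ∀ U : X.AffineZariskiSite, Γ(c.pt, p ⁻¹ᵁ U.1) →+* Γ(s.pt, h ⁻¹ᵁ U.1) := fun U =>
    { toFun := ωf U
      map_one' := by rw [← map_one (cm j₀ U.1), hω, map_one]
      map_zero' := by rw [← map_zero (cm j₀ U.1), hω, map_zero]
      map_mul' := fun a b => by
        obtain ⟨l, y, z, rfl, rfl⟩ := hrep U a b
        rw [← map_mul, hω, hω, hω, map_mul]
      map_add' := fun a b => by
        obtain ⟨l, y, z, rfl, rfl⟩ := hrep U a b
        rw [← map_add, hω, hω, hω, map_add] }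
  let t : (RelSpec.aff X).op ⋙ AffAlg.alg p ⟶ (RelSpec.aff X).op ⋙ AffAlg.alg h :=
    { app := fun U => CommRingCat.ofHom (ωr U.unop)
      naturality := fun U V i => ConcreteCategory.hom_ext _ _ fun x => by
        have le : V.unop.1 ≤ U.unop.1 := leOfHom ((RelSpec.aff X).map i.unop)
        obtain ⟨j, y, rfl⟩ : ∃ (j : J) (y : Γ(D.obj (op j), π (op j) ⁻¹ᵁ U.unop.1)), cm j U.unop.1 y = x :=
          ⟨_, _, hyx U.unop.1 U.unop.2 x⟩
        have e1 : c.pt.presheaf.map (homOfLE (p.preimage_mono le)).op (cm j U.unop.1 y) =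
            cm j V.unop.1 ((D.obj (op j)).presheaf.map (homOfLE ((π (op j)).preimage_mono le)).op y) := by
          simp only [cm]
          erw [← ConcreteCategory.comp_apply, ← ConcreteCategory.comp_apply, Scheme.Hom.appLE_map,
            Scheme.Hom.map_appLE]
          rfl
        have e2 : s.pt.presheaf.map (homOfLE (h.preimage_mono le)).op (sm j U.unop.1 y) =
            sm j V.unop.1 ((D.obj (op j)).presheaf.map (homOfLE ((π (op j)).preimage_mono le)).op y) := by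
          simp only [sm]
          erw [← ConcreteCategory.comp_apply, ← ConcreteCategory.comp_apply, Scheme.Hom.appLE_map,
            Scheme.Hom.map_appLE]
          rfl
        show ωf V.unop (c.pt.presheaf.map (homOfLE (p.preimage_mono le)).op (cm j U.unop.1 y)) =
          s.pt.presheaf.map (homOfLE (h.preimage_mono le)).op (ωf U.unop (cm j U.unop.1 y))
        rw [hω, e1, hω, e2] }
  let e := Functor.IsCoverDense.restrictHomEquivHom (G := RelSpec.aff X) (K := Opens.grothendieckTopology X)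
    (ℱ := AffAlg.alg p) (ℱ' := (⟨AffAlg.alg h, TopCat.Sheaf.pushforward_sheaf_of_sheaf _ s.pt.sheaf.2⟩ :
      TopCat.Sheaf CommRingCat.{u} X.carrier))
  let Ω : AffAlg.alg p ⟶ AffAlg.alg h := e t
  have hΩ : ∀ (U : X.AffineZariskiSite) (x : Γ(c.pt, p ⁻¹ᵁ U.1)), Ω.app (op U.1) x = ωf U x := fun U x =>
    ConcreteCategory.congr_hom (NatTrans.congr_app (e.symm_apply_apply t) (op U)) x
  have hstr : p.c ≫ Ω = h.c := by
    refine (Functor.IsCoverDense.restrictHomEquivHom (G := RelSpec.aff X) (K := Opens.grothendieckTopology X)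
      (ℱ' := (⟨AffAlg.alg h, TopCat.Sheaf.pushforward_sheaf_of_sheaf _ s.pt.sheaf.2⟩ :
        TopCat.Sheaf CommRingCat.{u} X.carrier))).symm.injective ?_
    refine NatTrans.ext (funext fun U => ConcreteCategory.hom_ext _ _ fun r => ?_)
    show Ω.app (op U.unop.1) (p.app U.unop.1 r) = h.app U.unop.1 r
    rw [hΩ]
    have e1 : p.app U.unop.1 r = cm j₀ U.unop.1 ((π (op j₀)).app U.unop.1 r) := by
      simp only [cm]
      erw [← ConcreteCategory.comp_apply, Scheme.Hom.app_eq_appLE, Scheme.Hom.app_eq_appLE,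
        Scheme.Hom.appLE_comp_appLE]
      simp only [hp]
      rfl
    rw [e1, hω]
    simp only [sm]
    erw [← ConcreteCategory.comp_apply, Scheme.Hom.app_eq_appLE, Scheme.Hom.app_eq_appLE,
      Scheme.Hom.appLE_comp_appLE]
    rfl
  obtain ⟨w, hw, hwΩ⟩ := GrothLib.AffAlg8.exists_hom p h Ω hstr
  have key : ∀ (w' : s.pt ⟶ c.pt) (hw' : w' ≫ p = h) (U : X.AffineZariskiSite) (j : J)
      (y : Γ(D.obj (op j), π (op j) ⁻¹ᵁ U.1)),
      (w' ≫ c.π.app (op j)).appLE (π (op j) ⁻¹ᵁ U.1) (h ⁻¹ᵁ U.1) (by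
        rw [← hw', ← hp (op j)]; rfl) y = (AffAlg.algHom p h w' hw').app (op U.1) (cm j U.1 y) := by
    intro w' hw' U j y
    rw [GrothLib.AffAlg8.algHom_app]
    simp only [cm]
    erw [← ConcreteCategory.comp_apply, Scheme.Hom.appLE_comp_appLE]
    rfl
  refine ⟨w, fun j => ?_, fun w' hw' => ?_⟩
  · obtain ⟨j⟩ := j
    refine GrothLib.AffAlg8.hom_ext (π (op j)) h (by rw [Category.assoc, hp, hw]) (hh _) ?_
    refine (Functor.IsCoverDense.restrictHomEquivHom (G := RelSpec.aff X) (K := Opens.grothendieckTopology X)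
      (ℱ' := (⟨AffAlg.alg h, TopCat.Sheaf.pushforward_sheaf_of_sheaf _ s.pt.sheaf.2⟩ :
        TopCat.Sheaf CommRingCat.{u} X.carrier))).symm.injective ?_
    refine NatTrans.ext (funext fun U => ConcreteCategory.hom_ext _ _ fun y => ?_)
    show (AffAlg.algHom (π (op j)) h (w ≫ c.π.app (op j)) (by rw [Category.assoc, hp, hw])).app (op U.unop.1) y =
      (AffAlg.algHom (π (op j)) h (s.π.app (op j)) (hh _)).app (op U.unop.1) y
    rw [GrothLib.AffAlg8.algHom_app, GrothLib.AffAlg8.algHom_app]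
    refine (key w hw U.unop j y).trans ?_
    rw [hwΩ, hΩ, hω]
    rfl
  · have hw'p : w' ≫ p = h := by rw [← hp (op j₀), ← Category.assoc, hw']
    refine GrothLib.AffAlg8.hom_ext p h hw'p hw ?_
    rw [hwΩ]
    refine (Functor.IsCoverDense.restrictHomEquivHom (G := RelSpec.aff X) (K := Opens.grothendieckTopology X)
      (ℱ' := (⟨AffAlg.alg h, TopCat.Sheaf.pushforward_sheaf_of_sheaf _ s.pt.sheaf.2⟩ :
        TopCat.Sheaf CommRingCat.{u} X.carrier))).symm.injective ?_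
    refine NatTrans.ext (funext fun U => ConcreteCategory.hom_ext _ _ fun x => ?_)
    show (AffAlg.algHom p h w' hw'p).app (op U.unop.1) x = Ω.app (op U.unop.1) x
    obtain ⟨j, y, rfl⟩ : ∃ (j : J) (y : Γ(D.obj (op j), π (op j) ⁻¹ᵁ U.unop.1)), cm j U.unop.1 y = x :=
      ⟨_, _, hyx U.unop.1 U.unop.2 x⟩
    rw [hΩ, hω, ← key w' hw'p U.unop j y]
    simp only [hw' (op j)]
    rfl

end GrothLib.RelOpenApprox8
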