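import Groth.Agent.Lib.RelOpenApprox8.Model
import Groth.Agent.Lib.RelOpenApprox8.LimitCrit
import Mathlib.AlgebraicGeometry.AffineTransitionLimit

/-!
# The approximating system relative to an open
-/

set_option autoImplicit false
set_option backward.isDefEq.respectTransparency false
set_option linter.style.haveILetI false
set_option maxHeartbeats 400000

universe u

open CategoryTheory CategoryTheory.Limits AlgebraicGeometry TopologicalSpace Opposite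
open GrothLib.QCAlgFT9
open GrothLib.QCoh GrothLib.QCoh.SubData

noncomputable section

namespace GrothLib.RelOpenApprox8

theorem appLE_eq_zero_iff {Y Z : Scheme.{u}} (f : Y ⟶ Z) {U : Z.Opens} {V : Y.Opens} (e : V = f ⁻¹ᵁ U)
    (x : Γ(Z, U)) : f.appLE U V e.le x = 0 ↔ f.app U x = 0 := by
  subst e
  rw [Scheme.Hom.app_eq_appLE]

theorem appLE_appLE_congr {Y Z T : Scheme.{u}} (m : T ⟶ Y) (f f' : Y ⟶ Z) (h : m ≫ f = m ≫ f')
    {U : Z.Opens} {V : Y.Opens} {W : T.Opens} (e₁ : V ≤ f ⁻¹ᵁ U) (e₁' : V ≤ f' ⁻¹ᵁ U) (e₂ : W ≤ m ⁻¹ᵁ V)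
    (x : Γ(Z, U)) : m.appLE V W e₂ (f.appLE U V e₁ x) = m.appLE V W e₂ (f'.appLE U V e₁' x) := by
  rw [← ConcreteCategory.comp_apply, ← ConcreteCategory.comp_apply, Scheme.Hom.appLE_comp_appLE,
    Scheme.Hom.appLE_comp_appLE]
  simp only [h]

theorem pushHom_comp {X T T' T'' : Scheme.{u}} (f : T ⟶ X) [QuasiCompact f] [QuasiSeparated f]
    (f' : T' ⟶ X) [QuasiCompact f'] [QuasiSeparated f'] (f'' : T'' ⟶ X) [QuasiCompact f''] [QuasiSeparated f'']
    (m : T' ⟶ T) (w : m ≫ f = f') (m' : T'' ⟶ T') (w' : m' ≫ f' = f'') (n : T'' ⟶ T) (hn : m' ≫ m = n)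
    (v : n ≫ f = f'') : pushHom f f' m w ≫ pushHom f' f'' m' w' = pushHom f f'' n v := by
  subst hn
  exact _root_.RelSpec.QCAlg.hom_ext (RLpsi8.algHom_comp f f' f'' m w m' w').symm

variable {X S : Scheme.{u}} (p : S ⟶ X) (V0 : X.Opens) (I : Type u) [Preorder I]

/-- The open part. -/
abbrev Wop : Scheme.{u} := ((p ⁻¹ᵁ V0 : S.Opens) : Scheme.{u})

/-- The structure map of the open part. -/
abbrev wmap : Wop p V0 ⟶ X := (p ⁻¹ᵁ V0).ι ≫ p

/-- The data: a system over `V0` with limit the open part. -/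
structure Dat where
  /-- the system -/
  D : Iᵒᵖ ⥤ Scheme.{u}
  /-- the cone -/
  q : (Functor.const Iᵒᵖ).obj (Wop p V0) ⟶ D
  /-- it is a limit -/
  hq : IsLimit (Cone.mk (Wop p V0) q)
  /-- the structure maps -/
  h : D ⟶ (Functor.const Iᵒᵖ).obj (V0 : Scheme.{u})
  hmap : ∀ {i j : Iᵒᵖ} (f : i ⟶ j), IsAffineHom (D.map f)
  hcpt : ∀ i, CompactSpace (D.obj i)
  hqs : ∀ i, QuasiSeparatedSpace (D.obj i)
  haff : ∀ i, IsAffineHom (h.app i)
  hlft : ∀ i, LocallyOfFiniteType (h.app i)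
  hh : ∀ i, q.app i ≫ h.app i ≫ V0.ι = wmap p V0

variable {p V0 I}
variable [CompactSpace X] [QuasiSeparatedSpace X] [IsAffineHom p] [QuasiCompact V0.ι]
  [QuasiCompact (wmap p V0)] (d : Dat p V0 I)

/-- The structure map of a stage. -/
abbrev Dat.g (i : I) : d.D.obj (op i) ⟶ X := d.h.app (op i) ≫ V0.ι

instance (i : I) : QuasiCompact (d.g i) := by
  haveI := d.haff (op i)
  show QuasiCompact (d.h.app (op i) ≫ V0.ι)
  infer_instance

instance (i : I) : QuasiSeparated (d.g i) := by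
  haveI := d.haff (op i)
  show QuasiSeparated (d.h.app (op i) ≫ V0.ι)
  infer_instance

omit [CompactSpace X] [QuasiSeparatedSpace X] [IsAffineHom p] [QuasiCompact V0.ι] [QuasiCompact (wmap p V0)] in
theorem Dat.map_g {i i' : I} (le : i ≤ i') : d.D.map (homOfLE le).op ≫ d.g i = d.g i' := by
  show d.D.map (homOfLE le).op ≫ d.h.app (op i) ≫ V0.ι = _
  rw [d.h.naturality_assoc]
  simp [Dat.g]

omit [CompactSpace X] [QuasiSeparatedSpace X] [IsAffineHom p] [QuasiCompact V0.ι] [QuasiCompact (wmap p V0)] in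
theorem Dat.q_g (i : I) : d.q.app (op i) ≫ d.g i = wmap p V0 := d.hh (op i)

omit [CompactSpace X] [QuasiSeparatedSpace X] [IsAffineHom p] [QuasiCompact V0.ι] [QuasiCompact (wmap p V0)] in
theorem Dat.q_map {i i' : I} (le : i ≤ i') : d.q.app (op i') ≫ d.D.map (homOfLE le).op = d.q.app (op i) := by
  have := d.q.naturality (homOfLE le).op
  simpa using this.symm

/-- Restriction to the open part. -/
abbrev Dat.φA : dI p ⟶ dI (wmap p V0) := pushHom p (wmap p V0) (p ⁻¹ᵁ V0).ι rfl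

/-- Pullback to the open part. -/
abbrev Dat.ψB (i : I) : dI (d.g i) ⟶ dI (wmap p V0) := pushHom _ _ (d.q.app (op i)) (d.q_g i)

/-- The glued algebra at a stage. -/
def Dat.F (i : I) : FP (Dat.φA (p := p) (V0 := V0)) (d.ψB i) := (nonempty_fp _ _).some

/-- Raw indices. -/
structure Idx0 where
  /-- the stage -/
  i : I
  /-- the generating submodule -/
  Q : SubData (d.F i).P.toModule
  hQ : LocGen Q ⊤

variable {d}

/-- The subalgebra. -/
def Idx0.A (j : Idx0 d) : _root_.RelSpec.QCAlg X := (exists_subalgebra (d.F j.i).P j.hQ).choose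

/-- Its inclusion. -/
def Idx0.ψ (j : Idx0 d) : j.A ⟶ (d.F j.i).P := (exists_subalgebra (d.F j.i).P j.hQ).choose_spec.choose

theorem Idx0.inj (j : Idx0 d) (U : X.Opens) : Function.Injective (ap j.ψ U) :=
  (exists_subalgebra (d.F j.i).P j.hQ).choose_spec.choose_spec.1 U

theorem Idx0.ft (j : Idx0 d) (U : X.affineOpens) : (j.A.str.app (op (U : X.Opens))).hom.FiniteType :=
  (exists_subalgebra (d.F j.i).P j.hQ).choose_spec.choose_spec.2.1 U

theorem Idx0.sec_subset (j : Idx0 d) {U : X.Opens} (hU : IsAffineOpen U) :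
    secSet (d.F j.i).P j.Q U ⊆ Set.range (ap j.ψ U) :=
  (exists_subalgebra (d.F j.i).P j.hQ).choose_spec.choose_spec.2.2 U hU

variable (d) in
/-- Indices: the subalgebra is everything over `V0`. -/
def Idx : Type u := {j : Idx0 d // ∀ U : X.Opens, IsAffineOpen U → U ≤ V0 → Function.Surjective (ap j.ψ U)}

/-- The approximating scheme. -/
abbrev Idx.Y (j : Idx d) : Scheme.{u} := j.1.A.spec

/-- The stage. -/
abbrev Idx.i (j : Idx d) : I := j.1.i

/-- Its structure map. -/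
abbrev Idx.π (j : Idx d) : j.Y ⟶ X := j.1.A.π

theorem exists_a (j : Idx d) : ∃ (k : S ⟶ j.Y) (w : k ≫ j.π = p), toAlg p j.1.A k w = j.1.ψ ≫ (d.F j.i).p₁ :=
  exists_toAlg_eq p j.1.A _

theorem exists_b (j : Idx d) :
    ∃ (k : d.D.obj (op j.i) ⟶ j.Y) (w : k ≫ j.π = d.g j.i), toAlg (d.g j.i) j.1.A k w = j.1.ψ ≫ (d.F j.i).p₂ :=
  exists_toAlg_eq (d.g j.i) j.1.A _

/-- The map from the limit. -/
def Idx.a (j : Idx d) : S ⟶ j.Y := (exists_a j).choose

theorem Idx.a_π (j : Idx d) : j.a ≫ j.π = p := (exists_a j).choose_spec.choose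

theorem Idx.toAlg_a (j : Idx d) : toAlg p j.1.A j.a j.a_π = j.1.ψ ≫ (d.F j.i).p₁ :=
  (exists_a j).choose_spec.choose_spec

/-- The map from the stage over `V0`. -/
def Idx.b (j : Idx d) : d.D.obj (op j.i) ⟶ j.Y := (exists_b j).choose

theorem Idx.b_π (j : Idx d) : j.b ≫ j.π = d.g j.i := (exists_b j).choose_spec.choose

theorem Idx.toAlg_b (j : Idx d) : toAlg (d.g j.i) j.1.A j.b j.b_π = j.1.ψ ≫ (d.F j.i).p₂ :=
  (exists_b j).choose_spec.choose_spec

theorem Idx.compat (j : Idx d) : (p ⁻¹ᵁ V0).ι ≫ j.a = d.q.app (op j.i) ≫ j.b := by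
  refine toAlg_ext (wmap p V0) j.1.A (by rw [Category.assoc, j.a_π])
    (by rw [Category.assoc, j.b_π, d.q_g]) ?_
  rw [toAlg_comp p (wmap p V0) j.1.A j.a j.a_π (p ⁻¹ᵁ V0).ι rfl,
    toAlg_comp (d.g j.i) (wmap p V0) j.1.A j.b j.b_π (d.q.app (op j.i)) (d.q_g j.i), j.toAlg_a, j.toAlg_b,
    Category.assoc, Category.assoc]
  exact congrArg (j.1.ψ ≫ ·) (d.F j.i).comm

/-- Sections of an approximation are detected on the limit and on the stage. -/
theorem Idx.joint_inj (j : Idx d) {U : X.Opens} (hU : IsAffineOpen U) (y : Γ(j.Y, j.π ⁻¹ᵁ U))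
    (ha : j.a.appLE (j.π ⁻¹ᵁ U) (p ⁻¹ᵁ U) (by rw [← Scheme.Hom.comp_preimage, j.a_π]) y = 0)
    (hb : j.b.appLE (j.π ⁻¹ᵁ U) (d.g j.i ⁻¹ᵁ U) (by rw [← Scheme.Hom.comp_preimage j.b, j.b_π]) y = 0) :
    y = 0 := by
  obtain ⟨x, rfl⟩ : ∃ x, ap (gInv j.1.A) U x = y := ⟨ap j.1.A.gammaHom U y,
    by rw [← ap_comp, gammaHom_gInv]; rfl⟩
  have e₁ : ap (d.F j.i).p₁ U (ap j.1.ψ U x) = 0 := by
    rw [← ap_comp, ← j.toAlg_a, toAlg, ap_comp, pushHom_ap]
    exact ha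
  have e₂ : ap (d.F j.i).p₂ U (ap j.1.ψ U x) = 0 := by
    rw [← ap_comp, ← j.toAlg_b, toAlg, ap_comp, pushHom_ap]
    exact hb
  have e : ap j.1.ψ U x = ap j.1.ψ U 0 :=
    (d.F j.i).inj U hU _ _ (by rw [e₁, map_zero, map_zero]) (by rw [e₂, map_zero, map_zero])
  rw [j.1.inj U e, map_zero]

/-- A morphism of approximations. -/
def IsTrans (j j' : Idx d) (le : j.i ≤ j'.i) (f : j'.Y ⟶ j.Y) : Prop :=
  f ≫ j.π = j'.π ∧ j'.a ≫ f = j.a ∧ j'.b ≫ f = d.D.map (homOfLE le).op ≫ j.b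

theorem IsTrans.eq {j j' : Idx d} {le : j.i ≤ j'.i} {f f' : j'.Y ⟶ j.Y} (h : IsTrans j j' le f)
    (h' : IsTrans j j' le f') : f = f' := by
  refine toAlg_ext j'.π j.1.A h.1 h'.1 (RelSpec.algHom_ext fun U hU => ConcreteCategory.hom_ext _ _ fun x => ?_)
  show ap (toAlg j'.π j.1.A f h.1) U x = ap (toAlg j'.π j.1.A f' h'.1) U x
  rw [toAlg, toAlg, ap_comp, ap_comp, pushHom_ap, pushHom_ap, ← sub_eq_zero]
  refine j'.joint_inj hU _ ?_ ?_
  · rw [map_sub, sub_eq_zero]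
    exact appLE_appLE_congr _ _ _ (h.2.1.trans h'.2.1.symm) _ _ _ _
  · rw [map_sub, sub_eq_zero]
    exact appLE_appLE_congr _ _ _ (h.2.2.trans h'.2.2.symm) _ _ _ _

instance : Preorder (Idx d) where
  le j j' := ∃ (le : j.i ≤ j'.i) (f : j'.Y ⟶ j.Y), IsTrans j j' le f
  le_refl j := ⟨le_rfl, 𝟙 _, Category.id_comp _, Category.comp_id _, by simp⟩
  le_trans j j' j'' := fun ⟨h₁, f, e₁, e₂, e₃⟩ ⟨h₂, f', e₁', e₂', e₃'⟩ =>
    ⟨h₁.trans h₂, f' ≫ f, by rw [Category.assoc, e₁, e₁'], by rw [← Category.assoc, e₂', e₂], by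
      rw [← Category.assoc, e₃', Category.assoc, e₃, ← Category.assoc, ← d.D.map_comp]
      rfl⟩

/-- The transition morphism. -/
def Idx.tr {j j' : Idx d} (h : j ≤ j') : j'.Y ⟶ j.Y := h.choose_spec.choose

theorem Idx.tr_spec {j j' : Idx d} (h : j ≤ j') : IsTrans j j' h.choose (Idx.tr h) := h.choose_spec.choose_spec

theorem Idx.tr_π {j j' : Idx d} (h : j ≤ j') : Idx.tr h ≫ j.π = j'.π := (Idx.tr_spec h).1

theorem Idx.a_tr {j j' : Idx d} (h : j ≤ j') : j'.a ≫ Idx.tr h = j.a := (Idx.tr_spec h).2.1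

theorem Idx.b_tr {j j' : Idx d} (h : j ≤ j') :
    j'.b ≫ Idx.tr h = d.D.map (homOfLE h.choose).op ≫ j.b := (Idx.tr_spec h).2.2

variable (d) in
/-- The system of approximations. -/
def sys : (Idx d)ᵒᵖ ⥤ Scheme.{u} where
  obj j := j.unop.Y
  map f := Idx.tr (leOfHom f.unop)
  map_id j := (Idx.tr_spec (le_refl j.unop)).eq ⟨Category.id_comp _, Category.comp_id _, by simp⟩
  map_comp {j k l} f f' := by
    have h₁ := leOfHom f.unop
    have h₂ := leOfHom f'.unop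
    refine (Idx.tr_spec (h₂.trans h₁)).eq ⟨?_, ?_, ?_⟩
    · rw [Category.assoc, Idx.tr_π, Idx.tr_π]
    · rw [← Category.assoc, Idx.a_tr, Idx.a_tr]
    · rw [← Category.assoc, Idx.b_tr, Category.assoc, Idx.b_tr, ← Category.assoc, ← d.D.map_comp]
      rfl

variable (d) in
/-- The cone from the limit. -/
def sysCone : Cone (sys d) where
  pt := S
  π :=
    { app := fun j => j.unop.a
      naturality := fun j k f => (Category.id_comp _).trans (Idx.a_tr (leOfHom f.unop)).symm }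

/-! ## Constructing indices -/

omit [CompactSpace X] [QuasiSeparatedSpace X] [QuasiCompact V0.ι] in
theorem φA_bijective {U : X.Opens} (hU : U ≤ V0) : Function.Bijective (ap (Dat.φA (p := p) (V0 := V0)) U) := by
  haveI := (p ⁻¹ᵁ V0).ι.isIso_app (p ⁻¹ᵁ U) (by rw [Scheme.Opens.opensRange_ι]; exact p.preimage_mono hU)
  have e : ∀ x, ap (Dat.φA (p := p) (V0 := V0)) U x = (p ⁻¹ᵁ V0).ι.app (p ⁻¹ᵁ U) x := fun x => by
    rw [pushHom_ap, Scheme.Hom.app_eq_appLE]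
    rfl
  rw [show (ap (Dat.φA (p := p) (V0 := V0)) U : _ → _) = _ from funext e]
  exact ConcreteCategory.bijective_of_isIso ((p ⁻¹ᵁ V0).ι.app (p ⁻¹ᵁ U))

theorem p₂_bijective (i : I) {U : X.Opens} (hU : IsAffineOpen U) (le : U ≤ V0) :
    Function.Bijective (ap (d.F i).p₂ U) := by
  refine ⟨fun s t e => (d.F i).inj U hU s t ((φA_bijective le).1 ?_) e, fun c => ?_⟩
  · rw [← ap_comp, ← ap_comp, (d.F i).comm, ap_comp, ap_comp, e]
  · obtain ⟨x, hx⟩ := (φA_bijective (p := p) le).2 (ap (d.ψB i) U c)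
    obtain ⟨s, -, hs⟩ := (d.F i).exi U hU x c hx
    exact ⟨s, hs⟩

theorem isAffineOpen_preimage_g (i : I) {U : X.Opens} (hU : IsAffineOpen U) (le : U ≤ V0) :
    IsAffineOpen (d.g i ⁻¹ᵁ U) := by
  haveI := d.haff (op i)
  exact (hU.preimage_of_isOpenImmersion V0.ι (by rwa [Scheme.Opens.opensRange_ι])).preimage (d.h.app (op i))

variable (d) in
theorem exists_good (i : I) {κ : Type} [Finite κ] (U : κ → X.Opens) (hU : ∀ k, IsAffineOpen (U k))
    (s : ∀ k, Set ((d.F i).P.presheaf.obj (op (U k)))) (hs : ∀ k, (s k).Finite) :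
    ∃ (Q : SubData (d.F i).P.toModule) (hQ : LocGen Q ⊤),
      (∀ V : X.Opens, IsAffineOpen V → V ≤ V0 → Function.Surjective (ap (Idx0.ψ ⟨i, Q, hQ⟩) V)) ∧
        ∀ k, s k ⊆ Set.range (ap (Idx0.ψ ⟨i, Q, hQ⟩) (U k)) := by
  classical
  haveI : CompactSpace V0.toScheme := QuasiCompact.compactSpace_of_compactSpace V0.ι
  obtain ⟨ι, _, W, hWA, hW, hcov⟩ := exists_finite_affine_cover (U := V0)
    (isCompact_iff_compactSpace.mpr ‹CompactSpace V0.toScheme›)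
  have hgen : ∀ l, ∃ G : Set ((d.F i).P.presheaf.obj (op (W l))), G.Finite ∧
      ∀ R : Subring ((d.F i).P.presheaf.obj (op (W l))),
        Set.range (strB (d.F i).P (W l)) ⊆ R → G ⊆ R → ∀ x, x ∈ R := by
    intro l
    haveI := d.hlft (op i)
    haveI : LocallyOfFiniteType (d.g i) := inferInstance
    have hb := p₂_bijective (d := d) i (hWA l) (hW l)
    have hft : ((d.g i).app (W l)).hom.FiniteType := by
      rw [Scheme.Hom.app_eq_appLE]
      exact (d.g i).finiteType_appLE (hWA l) (isAffineOpen_preimage_g i (hWA l) (hW l)) le_rfl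
    obtain ⟨G, hG⟩ := exists_finset_gen (G := dI (d.g i)) (U := W l) hft
    refine ⟨ap (d.F i).p₂ (W l) ⁻¹' G, G.finite_toSet.preimage hb.1.injOn, fun R hR hGR x => ?_⟩
    have hx := hG (R.map (ap (d.F i).p₂ (W l)))
      (fun _ ⟨r, hr⟩ => hr ▸ ⟨strB (d.F i).P (W l) r, hR ⟨r, rfl⟩, ap_str _ _ r⟩)
      (fun z hz => by
        obtain ⟨y, rfl⟩ := hb.2 z
        exact ⟨y, hGR hz, rfl⟩) (ap (d.F i).p₂ (W l) x)
    obtain ⟨y, hy, hyx⟩ := hx
    exact hb.1 hyx ▸ hy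
  choose G hGfin hG using hgen
  choose P hP hPs using fun k => exists_locGen_qcqs (d.F i).P (hU k) (S := s k) (hs k)
  choose P' hP' hPG using fun l => exists_locGen_qcqs (d.F i).P (hWA l) (S := G l) (hGfin l)
  let Q := sumData (d.F i).P (Sum.elim P P')
  have hQ : LocGen Q ⊤ := locGen_sumData (d.F i).P _ (Sum.rec hP hP')
  refine ⟨Q, hQ, fun V hV hVle x => ?_, fun k x hx => ?_⟩
  · refine range_subset_of_cover (Idx0.ψ ⟨i, Q, hQ⟩) (Idx0.inj _) (𝟙 (d.F i).P) W hWA (fun l y => ?_) hV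
      (hVle.trans hcov) x
    refine hG l (ap (Idx0.ψ ⟨i, Q, hQ⟩) (W l)).range ?_ (fun z hz => ?_) y
    · rintro _ ⟨r, rfl⟩
      exact ⟨strB _ _ r, ap_str _ _ r⟩
    · exact Idx0.sec_subset ⟨i, Q, hQ⟩ (hWA l) (le_sumData (d.F i).P (Sum.elim P P') (Sum.inr l) _ (hPG l hz))
  · exact Idx0.sec_subset ⟨i, Q, hQ⟩ (hU k) (le_sumData (d.F i).P (Sum.elim P P') (Sum.inl k) _ (hPs k hx))

theorem exists_trans_of_factor {j j' : Idx d} (le : j.i ≤ j'.i) (ω : j.1.A ⟶ j'.1.A)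
    (h₁ : (ω ≫ j'.1.ψ) ≫ (d.F j'.i).p₁ = j.1.ψ ≫ (d.F j.i).p₁)
    (h₂ : (ω ≫ j'.1.ψ) ≫ (d.F j'.i).p₂ =
      (j.1.ψ ≫ (d.F j.i).p₂) ≫ pushHom (d.g j.i) (d.g j'.i) (d.D.map (homOfLE le).op) (d.map_g le)) :
    j ≤ j' := by
  obtain ⟨f, hf, hfω⟩ := exists_toAlg_eq j'.π j.1.A (ω ≫ gInv j'.1.A)
  refine ⟨le, f, hf, ?_, ?_⟩
  · refine toAlg_ext p j.1.A (by rw [Category.assoc, hf, j'.a_π]) j.a_π ?_
    rw [toAlg_comp j'.π p j.1.A f hf j'.a j'.a_π, hfω, j.toAlg_a, ← h₁, Category.assoc, Category.assoc]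
    exact congrArg (ω ≫ ·) j'.toAlg_a
  · refine toAlg_ext (d.g j'.i) j.1.A (by rw [Category.assoc, hf, j'.b_π])
      (by rw [Category.assoc, j.b_π, d.map_g le]) ?_
    rw [toAlg_comp j'.π (d.g j'.i) j.1.A f hf j'.b j'.b_π, hfω,
      toAlg_comp (d.g j.i) (d.g j'.i) j.1.A j.b j.b_π (d.D.map (homOfLE le).op) (d.map_g le), j.toAlg_b, ← h₂,
      Category.assoc, Category.assoc]
    exact congrArg (ω ≫ ·) j'.toAlg_b

theorem exists_above (j₁ j₂ : Idx d) (i : I) (h₁ : j₁.i ≤ i) (h₂ : j₂.i ≤ i) :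
    ∃ j : Idx d, j.i = i ∧ j₁ ≤ j ∧ j₂ ≤ j := by
  classical
  obtain ⟨ι, _, W, hWA, -, hcov⟩ := exists_finite_affine_cover (U := (⊤ : X.Opens))
    (by simpa using isCompact_univ)
  let e := Fintype.equivFin ι
  let js : Bool → Idx d := fun b => if b then j₁ else j₂
  have hle : ∀ b, (js b).i ≤ i := fun b => by cases b <;> assumption
  have hw : ∀ b, ∃ w : (js b).1.A ⟶ (d.F i).P, w ≫ (d.F i).p₁ = (js b).1.ψ ≫ (d.F (js b).i).p₁ ∧
      w ≫ (d.F i).p₂ = ((js b).1.ψ ≫ (d.F (js b).i).p₂) ≫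
        pushHom (d.g (js b).i) (d.g i) (d.D.map (homOfLE (hle b)).op) (d.map_g (hle b)) := by
    intro b
    refine (d.F i).exists_lift _ _ ?_
    have e : pushHom (d.g (js b).i) (d.g i) (d.D.map (homOfLE (hle b)).op) (d.map_g (hle b)) ≫ d.ψB i =
        d.ψB (js b).i :=
      pushHom_comp _ _ _ _ _ _ _ _ (d.q_map (hle b)) _
    rw [Category.assoc, Category.assoc, Category.assoc, e, (d.F (js b).i).comm]
  choose w hw₁ hw₂ using hw
  choose G hG using fun (k : Bool × Fin (Fintype.card ι)) =>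
    exists_finset_gen (G := (js k.1).1.A) ((js k.1).1.ft ⟨W (e.symm k.2), hWA _⟩)
  obtain ⟨Q, hQ, hgood, hs⟩ := exists_good d i (fun k : Bool × Fin (Fintype.card ι) => W (e.symm k.2))
    (fun k => hWA _) (fun k => ap (w k.1) _ '' (G k : Set _)) (fun k => (G k).finite_toSet.image _)
  let j : Idx d := ⟨⟨i, Q, hQ⟩, hgood⟩
  have hj : ∀ b, js b ≤ j := by
    intro b
    obtain ⟨ω, hω⟩ := exists_factor j.1.ψ j.1.inj (w b) (fun l => W (e.symm l)) (fun l => hWA _)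
      (fun x => by
        obtain ⟨l, hl⟩ := Opens.mem_iSup.1 (hcov (Opens.mem_top x))
        exact ⟨e l, by simpa using hl⟩)
      (fun l x => hG (b, l) ((ap j.1.ψ (W (e.symm l))).range.comap (ap (w b) (W (e.symm l))))
        (by
          rintro _ ⟨r, rfl⟩
          exact ⟨strB _ _ r, (ap_str _ _ r).trans (ap_str _ _ r).symm⟩)
        (fun z hz => hs (b, l) ⟨z, hz, rfl⟩) x)
    exact exists_trans_of_factor (hle b) ω (by rw [hω]; exact hw₁ b) (by rw [hω]; exact hw₂ b)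
  exact ⟨j, rfl, hj true, hj false⟩

variable (d) in
theorem exists_idx (i : I) : ∃ j : Idx d, j.i = i := by
  obtain ⟨Q, hQ, hgood, -⟩ := exists_good d i (κ := Empty) (fun k => k.elim) (fun k => k.elim)
    (fun k => k.elim) (fun k => k.elim)
  exact ⟨⟨⟨i, Q, hQ⟩, hgood⟩, rfl⟩

instance isDirected_idx [IsDirected I (· ≤ ·)] : IsDirected (Idx d) (· ≤ ·) :=
  ⟨fun j₁ j₂ => by
    obtain ⟨i, h₁, h₂⟩ := exists_ge_ge j₁.i j₂.i
    obtain ⟨j, -, hj⟩ := exists_above j₁ j₂ i h₁ h₂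
    exact ⟨j, hj⟩⟩

instance nonempty_idx [Nonempty I] : Nonempty (Idx d) := ⟨(exists_idx d (Classical.arbitrary I)).choose⟩

end GrothLib.RelOpenApprox8
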