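import Groth.Agent.Lib.RelOpenApprox8.FiberProd
import Groth.Agent.Lib.RLpsi8.GammaIso
import Groth.Agent.Lib.RLpsi8.AffPushout
import Groth.Agent.Lib.AffAlg8.Hom
import Groth.Agent.Lib.QCAlgFT9.Sub

/-!
# Morphisms into relative spectra as maps of quasi-coherent algebras
-/

set_option autoImplicit false
set_option backward.isDefEq.respectTransparency false
set_option linter.style.haveILetI false

universe u

open CategoryTheory CategoryTheory.Limits AlgebraicGeometry TopologicalSpace Opposite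
open GrothLib.QCAlgFT9

noncomputable section

namespace GrothLib.RelOpenApprox8

variable {X : Scheme.{u}}

abbrev dI {T : Scheme.{u}} (f : T ⟶ X) [QuasiCompact f] [QuasiSeparated f] : _root_.RelSpec.QCAlg X :=
  _root_.RelSpec.QCAlg.directImage f

variable {T T' : Scheme.{u}} (f : T ⟶ X) [QuasiCompact f] [QuasiSeparated f]
  (f' : T' ⟶ X) [QuasiCompact f'] [QuasiSeparated f']

/-- The algebra map of a morphism over the base. -/
def pushHom (m : T' ⟶ T) (w : m ≫ f = f') : dI f ⟶ dI f' :=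
  ⟨AffAlg.algHom f f' m w, AffAlg.algHom_comm f f' m w⟩

theorem pushHom_ap (m : T' ⟶ T) (w : m ≫ f = f') (U : X.Opens) (x : Γ(T, f ⁻¹ᵁ U)) :
    ap (pushHom f f' m w) U x = m.appLE (f ⁻¹ᵁ U) (f' ⁻¹ᵁ U) (by rw [← w]; rfl) x := by
  show (AffAlg.algHom f f' m w).app (op U) x = _
  rw [GrothLib.AffAlg8.algHom_app]
  rfl

variable (A B : _root_.RelSpec.QCAlg X)

theorem gammaHom_bijective (U : X.Opens) : Function.Bijective (ap A.gammaHom U) := by
  haveI := RLpsi8.isIso_gammaMap A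
  exact ConcreteCategory.bijective_of_isIso (A.gammaMap.app (op U))

theorem exists_gammaInv : ∃ e : A ⟶ dI A.π, A.gammaHom ≫ e = 𝟙 _ ∧ e ≫ A.gammaHom = 𝟙 A := by
  haveI := RLpsi8.isIso_gammaMap A
  exact ⟨⟨inv A.gammaMap, (IsIso.eq_comp_inv A.gammaMap).mpr A.π_c_gammaMap |>.symm⟩,
    _root_.RelSpec.QCAlg.hom_ext (IsIso.hom_inv_id A.gammaMap),
    _root_.RelSpec.QCAlg.hom_ext (IsIso.inv_hom_id A.gammaMap)⟩

/-- The inverse of `gammaHom`. -/
def gInv : A ⟶ dI A.π := (exists_gammaInv A).choose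

theorem gammaHom_gInv : A.gammaHom ≫ gInv A = 𝟙 _ := (exists_gammaInv A).choose_spec.1

theorem gInv_gammaHom : gInv A ≫ A.gammaHom = 𝟙 A := (exists_gammaInv A).choose_spec.2

/-- The algebra map of a morphism into a relative spectrum. -/
def toAlg (k : T ⟶ A.spec) (w : k ≫ A.π = f) : A ⟶ dI f := gInv A ≫ pushHom A.π f k w

theorem toAlg_comp (k : T ⟶ A.spec) (w : k ≫ A.π = f) (m : T' ⟶ T) (v : m ≫ f = f') :
    toAlg f' A (m ≫ k) (by rw [Category.assoc, w, v]) = toAlg f A k w ≫ pushHom f f' m v := by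
  refine Eq.trans ?_ (Category.assoc _ _ _).symm
  exact congrArg (gInv A ≫ ·) (_root_.RelSpec.QCAlg.hom_ext (RLpsi8.algHom_comp A.π f f' k w m v))

theorem toAlg_ext {k k' : T ⟶ A.spec} (w : k ≫ A.π = f) (w' : k' ≫ A.π = f)
    (h : toAlg f A k w = toAlg f A k' w') : k = k' := by
  refine GrothLib.AffAlg8.hom_ext A.π f w w' ?_
  have e := congrArg (A.gammaHom ≫ ·) h
  simp only [toAlg, ← Category.assoc, gammaHom_gInv, Category.id_comp] at e
  exact congrArg _root_.RelSpec.QCAlg.Hom.hom e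

theorem exists_toAlg_eq (ω : A ⟶ dI f) : ∃ (k : T ⟶ A.spec) (w : k ≫ A.π = f), toAlg f A k w = ω := by
  obtain ⟨k, w, hk⟩ := GrothLib.AffAlg8.exists_hom A.π f (A.gammaMap ≫ ω.hom)
    (by rw [← Category.assoc, A.π_c_gammaMap]; exact ω.comm)
  refine ⟨k, w, ?_⟩
  rw [toAlg, show pushHom A.π f k w = A.gammaHom ≫ ω from _root_.RelSpec.QCAlg.hom_ext hk, ← Category.assoc,
    gInv_gammaHom, Category.id_comp]

theorem toAlg_id : toAlg A.π A (𝟙 _) (Category.id_comp _) = gInv A := by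
  have e : pushHom A.π A.π (𝟙 _) (Category.id_comp _) = 𝟙 (dI A.π) :=
    RelSpec.algHom_ext fun U _ => ConcreteCategory.hom_ext _ _ fun x => by
      show ap (pushHom A.π A.π (𝟙 _) _) U x = x
      rw [pushHom_ap]
      simp [Scheme.Hom.appLE]
      exact ConcreteCategory.congr_hom (A.spec.presheaf.map_id _) x
  rw [toAlg, e, Category.comp_id]

variable {A}

theorem locallyOfFiniteType_π (h : ∀ U : X.affineOpens, (A.str.app (op (U : X.Opens))).hom.FiniteType) :
    LocallyOfFiniteType A.π := by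
  refine IsZariskiLocalAtSource.of_openCover (P := @LocallyOfFiniteType) A.glueData.cover fun U => ?_
  show LocallyOfFiniteType (A.ι U.1 U.2 ≫ A.π)
  rw [A.ι_π]
  haveI : LocallyOfFiniteType (Spec.map (A.str.app (op U.1))) :=
    HasRingHomProperty.Spec_iff.2 (h ⟨U.1, U.2⟩)
  infer_instance

variable {B}

/-- Sections in the range of an injective algebra map: a local criterion. -/
theorem range_subset_of_cover {P G : _root_.RelSpec.QCAlg X} (ψ : A ⟶ P)
    (hψ : ∀ U : X.Opens, Function.Injective (ap ψ U)) (w : G ⟶ P) {κ : Type*} (V : κ → X.Opens)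
    (hV : ∀ k, IsAffineOpen (V k)) (hsub : ∀ k x, ap w (V k) x ∈ Set.range (ap ψ (V k)))
    {U : X.Opens} (hU : IsAffineOpen U) (hcov : U ≤ ⨆ k, V k) (x : G.presheaf.obj (op U)) :
    ap w U x ∈ Set.range (ap ψ U) := by
  have hloc : ∀ p : U, ∃ (D : X.Opens) (hD : D ≤ U) (y : A.presheaf.obj (op D)), p.1 ∈ D ∧
      ap ψ D y = resB P hD (ap w U x) := by
    intro p
    obtain ⟨k, hk⟩ := Opens.mem_iSup.1 (hcov p.2)
    obtain ⟨g, g', hgg, hxg⟩ := exists_basicOpen_le_affine_inter hU (hV k) p.1 ⟨p.2, hk⟩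
    refine ⟨X.basicOpen g', hgg ▸ X.basicOpen_le g, ?_⟩
    obtain ⟨n, a, ha⟩ := surj_away G (hV k) g' (resB G (hgg ▸ X.basicOpen_le g) x)
    obtain ⟨b, hb⟩ := hsub k a
    obtain ⟨u, hu⟩ := (RingedSpace.isUnit_res_basicOpen X.toRingedSpace g').exists_right_inv
    have hu' : (X.presheaf.map (homOfLE (X.basicOpen_le g')).op).hom g' * (show Γ(X, X.basicOpen g') from u) = 1 := hu
    refine ⟨resB A (X.basicOpen_le g') b * strB A (X.basicOpen g') (show Γ(X, X.basicOpen g') from u) ^ n, hgg ▸ hxg, ?_⟩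
    rw [map_mul, map_pow, ap_res, hb, ← ap_res, ← ha, map_mul, map_pow, ap_res, ap_res, ap_str, ap_str,
      resB_strB, mul_assoc, ← mul_pow, ← map_mul]
    erw [hu']
    rw [map_one, one_pow, mul_one]
  choose D hD y hpD hy using hloc
  obtain ⟨s, hs, -⟩ := TopCat.Sheaf.existsUnique_gluing' ⟨A.presheaf, A.isSheaf⟩ D U (fun p => homOfLE (hD p))
    (fun p hp => Opens.mem_iSup.mpr ⟨⟨p, hp⟩, hpD ⟨p, hp⟩⟩) y (fun p q => by
      refine hψ _ ?_
      show ap ψ _ (resB A (inf_le_left : D p ⊓ D q ≤ D p) (y p)) = ap ψ _ (resB A (inf_le_right : D p ⊓ D q ≤ D q) (y q))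
      rw [ap_res, ap_res, hy, hy, resB_resB, resB_resB])
  refine ⟨s, TopCat.Sheaf.eq_of_locally_eq' ⟨P.presheaf, P.isSheaf⟩ D U (fun p => homOfLE (hD p))
    (fun p hp => Opens.mem_iSup.mpr ⟨⟨p, hp⟩, hpD ⟨p, hp⟩⟩) _ _ fun p => ?_⟩
  show resB P (hD p) (ap ψ U s) = resB P (hD p) (ap w U x)
  rw [← ap_res, ← hy]
  exact congrArg _ (hs p)

/-- Factorisation through an injective algebra map. -/
theorem exists_factor {P G : _root_.RelSpec.QCAlg X} (ψ : A ⟶ P)
    (hψ : ∀ U : X.Opens, Function.Injective (ap ψ U)) (w : G ⟶ P) {κ : Type*} (V : κ → X.Opens)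
    (hV : ∀ k, IsAffineOpen (V k)) (hcov : ∀ x : X, ∃ k, x ∈ V k)
    (hsub : ∀ k x, ap w (V k) x ∈ Set.range (ap ψ (V k))) :
    ∃ ω : G ⟶ A, ω ≫ ψ = w := by
  have hex : ∀ (U : X.Opens) (_ : IsAffineOpen U) (x : G.presheaf.obj (op U)),
      ∃ y : A.presheaf.obj (op U), ap ψ U y = ap w U x := fun U hU x =>
    range_subset_of_cover ψ hψ w V hV hsub hU (fun p _ => Opens.mem_iSup.2 (hcov p)) x
  choose y hy using hex
  let f : ∀ U : X.Opens, IsAffineOpen U → (G.presheaf.obj (op U) →+* A.presheaf.obj (op U)) := fun U hU =>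
    { toFun := y U hU
      map_one' := hψ U (by simp [hy])
      map_mul' := fun a b => hψ U (by simp [hy])
      map_zero' := hψ U (by simp [hy])
      map_add' := fun a b => hψ U (by simp [hy]) }
  obtain ⟨ω, hω⟩ := RelSpec.exists_algHom (A := G) (B := A) f
    (fun U hU r => hψ U ((hy U hU _).trans ((ap_str w U r).trans (ap_str ψ U r).symm)))
    (fun U V hU hV le x => hψ V ((hy V hV _).trans ((ap_res w le x).trans
      ((congrArg (resB P le) (hy U hU x).symm).trans (ap_res ψ le _).symm))))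
  refine ⟨ω, RelSpec.algHom_ext fun U hU => ConcreteCategory.hom_ext _ _ fun x => ?_⟩
  show ap ψ U (ap ω U x) = ap w U x
  rw [show ap ω U = _ from hω U hU]
  exact hy U hU x

/-- Finitely many sections generate a finite type algebra over an affine open. -/
theorem exists_finset_gen {G : _root_.RelSpec.QCAlg X} {U : X.Opens}
    (h : (G.str.app (op U)).hom.FiniteType) :
    ∃ s : Finset (G.presheaf.obj (op U)), ∀ (R : Subring (G.presheaf.obj (op U))),
      Set.range (strB G U) ⊆ R → (s : Set (G.presheaf.obj (op U))) ⊆ R → ∀ x, x ∈ R := by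
  letI := (strB G U).toAlgebra
  obtain ⟨s, hs⟩ := (h : Algebra.FiniteType Γ(X, U) (G.presheaf.obj (op U))).out
  refine ⟨s, fun R hR hsR x => ?_⟩
  have e := congrArg Subalgebra.toSubring hs
  rw [Algebra.adjoin_eq_ring_closure, Algebra.top_toSubring] at e
  exact Subring.closure_le.2 (Set.union_subset hR hsR) (e.ge trivial)

end GrothLib.RelOpenApprox8
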